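import Mathlib.GroupTheory.QuotientGroup.Basic
import Mathlib.Order.Atoms
import Mathlib.Algebra.Group.Subgroup.Finite
import Mathlib.Data.SetLike.Fintype
import Mathlib.GroupTheory.SpecificGroups.Cyclic
import Mathlib.Order.Atoms.Finite
import Mathlib.Algebra.Group.Subgroup.Pointwise

/-!
Complements in subgroup lattices below a unique maximal overgroup.
-/

set_option autoImplicit false

namespace CfsgLib.CompLattice

variable {G : Type*} [Group G]

/-- The basic construction. -/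
theorem exists_compl [Finite G] {T X M : Subgroup G} (hTX : T ≤ X)
    (hint : ∀ Y : Subgroup G, T ≤ Y → Y ≤ X →
      ∃ C : Subgroup G, T ≤ C ∧ C ≤ X ∧ Y ⊔ C = X ∧ Y ⊓ C = T)
    (huniq : ∀ M' : Subgroup G, IsCoatom M' → X ≤ M' → M' = M)
    {H : Subgroup G} (hH : ¬ H ≤ M) (hHT : H ⊓ T = ⊥) :
    ∃ C : Subgroup G, H ⊔ C = ⊤ ∧ H ⊓ C = ⊥ := by
  obtain ⟨C, hTC, hCX, hsup, hinf⟩ := hint (T ⊔ H ⊓ X) le_sup_left (sup_le hTX inf_le_right)
  refine ⟨C, ?_, ?_⟩
  · rcases eq_top_or_exists_le_coatom (H ⊔ C) with h | ⟨M', hM', hle⟩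
    · exact h
    · exfalso
      have hXM' : X ≤ M' := by
        rw [← hsup]
        exact sup_le (sup_le (hTC.trans (le_sup_right.trans hle))
          (inf_le_left.trans (le_sup_left.trans hle))) (le_sup_right.trans hle)
      exact hH (huniq M' hM' hXM' ▸ le_sup_left.trans hle)
  · rw [eq_bot_iff, ← hHT]
    refine le_inf inf_le_left ?_
    rw [← hinf]
    exact le_inf ((le_inf inf_le_left (inf_le_right.trans hCX)).trans le_sup_right) inf_le_right

/-- Conjugates of complements. -/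
theorem exists_compl_map {G' : Type*} [Group G'] (e : G ≃* G') {H : Subgroup G}
    (h : ∃ C : Subgroup G, H ⊔ C = ⊤ ∧ H ⊓ C = ⊥) :
    ∃ C : Subgroup G', H.map e.toMonoidHom ⊔ C = ⊤ ∧ H.map e.toMonoidHom ⊓ C = ⊥ := by
  obtain ⟨C, h1, h2⟩ := h
  refine ⟨C.map e.toMonoidHom, ?_, ?_⟩
  · rw [← Subgroup.map_sup, h1, Subgroup.map_top_of_surjective _ e.surjective]
  · rw [← Subgroup.map_inf _ _ _ e.injective, h2, Subgroup.map_bot]

/-- A complemented subgroup lattice of `X`, as intervals. -/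
theorem interval_of_complemented {X : Subgroup G} (hK : ComplementedLattice (Subgroup X))
    (Y : Subgroup G) (_ : ⊥ ≤ Y) (hY : Y ≤ X) :
    ∃ C : Subgroup G, ⊥ ≤ C ∧ C ≤ X ∧ Y ⊔ C = X ∧ Y ⊓ C = ⊥ := by
  obtain ⟨C, hC⟩ := hK.exists_isCompl (Y.subgroupOf X)
  refine ⟨C.map X.subtype, bot_le, Subgroup.map_subtype_le C, ?_, ?_⟩
  · conv_lhs => rw [← Subgroup.map_subgroupOf_eq_of_le hY]
    rw [← Subgroup.map_sup, hC.sup_eq_top, ← MonoidHom.range_eq_map, Subgroup.range_subtype]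
  · conv_lhs => rw [← Subgroup.map_subgroupOf_eq_of_le hY]
    rw [← Subgroup.map_inf _ _ _ X.subtype_injective, hC.inf_eq_bot, Subgroup.map_bot]

/-- A complemented subgroup lattice of `X/N`, as an interval. -/
theorem interval_of_quotient {X N : Subgroup G} (hNX : N ≤ X) [(N.subgroupOf X).Normal]
    (hK : ComplementedLattice (Subgroup (X ⧸ N.subgroupOf X)))
    (Y : Subgroup G) (hNY : N ≤ Y) (hY : Y ≤ X) :
    ∃ C : Subgroup G, N ≤ C ∧ C ≤ X ∧ Y ⊔ C = X ∧ Y ⊓ C = N := by
  set π := QuotientGroup.mk' (N.subgroupOf X) with hπ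
  obtain ⟨C, hC⟩ := hK.exists_isCompl ((Y.subgroupOf X).map π)
  have hsurj : Function.Surjective π := QuotientGroup.mk'_surjective _
  have hker : π.ker ≤ Y.subgroupOf X := by
    rw [hπ, QuotientGroup.ker_mk']
    exact Subgroup.comap_mono hNY
  have hY' : ((Y.subgroupOf X).map π).comap π = Y.subgroupOf X := Subgroup.comap_map_eq_self hker
  have hNC : N.subgroupOf X ≤ C.comap π :=
    (QuotientGroup.ker_mk' (N.subgroupOf X)).ge.trans (Subgroup.ker_le_comap π C)
  refine ⟨(C.comap π).map X.subtype, ?_, Subgroup.map_subtype_le _, ?_, ?_⟩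
  · exact (Subgroup.map_subgroupOf_eq_of_le hNX).ge.trans (Subgroup.map_mono hNC)
  · have := congrArg (Subgroup.comap π) hC.sup_eq_top
    rw [← Subgroup.comap_sup_eq _ _ _ hsurj, hY', Subgroup.comap_top] at this
    conv_lhs => rw [← Subgroup.map_subgroupOf_eq_of_le hY]
    rw [← Subgroup.map_sup, this, ← MonoidHom.range_eq_map, Subgroup.range_subtype]
  · have := congrArg (Subgroup.comap π) hC.inf_eq_bot
    rw [Subgroup.comap_inf, hY', MonoidHom.comap_bot, hπ, QuotientGroup.ker_mk'] at this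
    conv_lhs => rw [← Subgroup.map_subgroupOf_eq_of_le hY]
    rw [← Subgroup.map_inf _ _ _ X.subtype_injective, this, Subgroup.map_subgroupOf_eq_of_le hNX]

end CfsgLib.CompLattice
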